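import Groth.Agent.L02.Hilb.CurvePoints
import Groth.Agent.S1167

/-!
# Hilbert schemes of points of proper smooth curves are proper
-/

set_option autoImplicit false
set_option linter.style.haveILetI false
set_option backward.isDefEq.respectTransparency false
set_option backward.isDefEq.respectTransparency.types false

universe u

open CategoryTheory CategoryTheory.Limits AlgebraicGeometry
open Groth.L02.Hilb

noncomputable section

namespace Groth.Agent.L26.HilbCurve

variable {X S : Scheme.{u}} (f : X ⟶ S) [IsProper f] [SmoothOfRelativeDimension 1 f]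

theorem isProper_of_isUniversal (hrep : ∀ e : ℕ, HilbD.Representable f e) (d : ℕ) (H : Over S) (Z : HilbD.Obj f d H)
    (hZ : HilbD.IsUniversal f d H Z) : IsProper H.hom := by
  induction d generalizing H with
  | zero => haveI := isIso_of_deg_zero f hZ; infer_instance
  | succ d ih =>
    obtain ⟨H₀, Z₀, hZ₀⟩ := hrep d
    haveI := ih H₀ Z₀ hZ₀
    haveI := isSeparated_of_isUniversal f hZ
    haveI := smooth_of_isUniversal f hrep (d + 1) H Z hZ
    let T : Over S := Over.mk (pullback.fst H₀.hom f ≫ H₀.hom)
    let p : T ⟶ H₀ := Over.homMk (pullback.fst H₀.hom f) rfl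
    let x : T.left ⟶ X := pullback.snd H₀.hom f
    have hx : x ≫ f = T.hom := pullback.condition.symm
    obtain ⟨m, hm, -⟩ := hZ T ⟨_, isFinLocFreeOfDeg_mul f _ _ (isFinLocFreeOfDeg_pull f p Z₀.1 Z₀.2)
      (isFinLocFreeOfDeg_secGraph f T x hx)⟩
    obtain ⟨⟨hfin, hflat, hfp⟩, hd⟩ := addPoint_finLocFree f H₀ Z₀ hZ₀ H Z hZ p x hx
      (IsPullback.of_hasPullback H₀.hom f) m hm
    haveI := hfin; haveI := hflat; haveI := hfp
    haveI : Surjective m.left := by
      rw [← Scheme.Hom.one_le_finrank_iff_surjective]
      exact fun y => by rw [hd y]; exact Nat.succ_le_succ (Nat.zero_le _)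
    haveI : IsProper (m.left ≫ H.hom) := by
      rw [Over.w m]
      exact inferInstanceAs (IsProper (pullback.fst H₀.hom f ≫ H₀.hom))
    haveI : UniversallyClosed H.hom := UniversallyClosed.of_comp_surjective m.left _
    exact IsProper.mk

end Groth.Agent.L26.HilbCurve
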